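import Cfsg.Agent.Lib.CosetEnum.Defs

/-! Generated table data. -/

set_option autoImplicit false
set_option maxRecDepth 20000

namespace Cfsg.Lib.CosetEnum.Y5Chain3

/-- Table data. -/
def tabF_0_0 : Tab :=
  (.node 1 (.leaf 0x980002610000000000880002210000000000800002000000000000700001c00000000000680001a00000000000580001600000000000400001060000000000380000e60000000000280000a60000000000300000c60000000000200000860000000000180000660000000000300000c00000000000200000800000000000b00002870000000000100000490000000000080000290000000000b80002c60000000000800001c20000000000680001620000000000480001420000000000400000e20000000000280000a20000000000180000620000000000100000420000000000080000220000000000380000a10000000000900002010000000000100000410000000000080000210000000000780001a10000000000980002400000000000080000200000000000000000090000000000000000060000000000000000020000000000000000010000000000000000000000000000c80003420000000000c00003210000000000b80003000000000000a80002e90000000000980002c90000000000980002a60000000000880002890000000000880002670000000000780002470000000000780002200000000000680002070000000000600001e60000000000580001c70000000000500001a60000000000500001810000000000480001660000000000400001400000000000380001200000000000300001090000000000200000e90000000000200000c20000000000180000a9000000000018000081000000000010000060000000000008000046000000000000000027) (.leaf 0xd00003470000000000c80003270000000000c00003070000000000b80002e70000000000a80002a70000000000d00003490000000000c80003290000000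000c00003090000000000a80002a00000000000900002460000000000800002060000000000700001c60000000000600001870000000000500001470000000000400001070000000000480001270000000000380000e70000000000280000a70000000000300000c70000000000200000870000000000180000670000000000100000470000000000d00003410000000000c00003020000000000b80002e20000000000b00002c20000000000a00002820000000000a80002a20000000000980002620000000000900002420000000000880002220000000000780001e20000000000600001820000000000a00002860000000000880002260000000000600001800000000000400001010000000000300000c10000000000d00003460000000000c80003260000000000c00003060000000000b00002c00000000000a00002800000000000900002490000000000800002090000000000700001c90000000000780001e90000000000680001a90000000000580001690000000000600001890000000000500001490000000000480001290000000000700001c10000000000580001610000000000480001210000000000280000a00000000000d00003400000000000c80003200000000000b80002e10000000000b00002c10000000000a00002810000000000a80002a1))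

/-- Table data. -/
def tabF_0 : Tab :=
  tabF_0_0

end Cfsg.Lib.CosetEnum.Y5Chain3
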